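import Cfsg.Agent.Lib.Helper98.S11.Data.C0
import Cfsg.Agent.Lib.Helper98.S11.Data.C1
import Cfsg.Agent.Lib.Helper98.S11.Data.C2
import Cfsg.Agent.Lib.Helper98.S11.Data.C3
import Cfsg.Agent.Lib.Helper98.S11.Data.C4
import Cfsg.Agent.Lib.Helper98.S11.Data.C5
import Cfsg.Agent.Lib.Helper98.S11.Data.C6
import Cfsg.Agent.Lib.Helper98.S11.Data.C7
import Cfsg.Agent.Lib.Helper98.S11.Data.C8
import Cfsg.Agent.Lib.Helper98.S11.Data.C9
import Cfsg.Agent.Lib.Helper98.S11.Data.C10
import Cfsg.Agent.Lib.Helper98.S11.Data.C11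
import Cfsg.Agent.Lib.Helper98.S11.Data.C12
import Cfsg.Agent.Lib.Helper98.S11.Data.C13
import Cfsg.Agent.Lib.Helper98.S11.Data.C14
import Cfsg.Agent.Lib.Helper98.S11.Data.C15
import Cfsg.Agent.Lib.Helper98.S11.Data.C16
import Cfsg.Agent.Lib.Helper98.S11.Data.C17
import Cfsg.Agent.Lib.Helper98.S11.Data.C18
import Cfsg.Agent.Lib.Helper98.S11.Data.C19
import Cfsg.Agent.Lib.Helper98.S11.Data.C20
import Cfsg.Agent.Lib.Helper98.S11.Data.C21
import Cfsg.Agent.Lib.Helper98.S11.Data.C22
import Cfsg.Agent.Lib.Helper98.S11.Data.C23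
import Cfsg.Agent.Lib.Helper98.S11.Data.C24
import Cfsg.Agent.Lib.Helper98.S11.Data.C25
import Cfsg.Agent.Lib.Helper98.S11.Data.C26
import Cfsg.Agent.Lib.Helper98.S11.Data.C27
import Cfsg.Agent.Lib.Helper98.S11.Data.C28
import Cfsg.Agent.Lib.Helper98.S11.Data.C29
import Cfsg.Agent.Lib.Helper98.S11.Data.C30
import Cfsg.Agent.Lib.Helper98.S11.Data.C31
import Cfsg.Agent.Lib.Helper98.S11.Data.C32
import Cfsg.Agent.Lib.Helper98.S11.Data.C33
import Cfsg.Agent.Lib.Helper98.S11.Data.C34
import Cfsg.Agent.Lib.Helper98.S11.Data.C35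
import Cfsg.Agent.Lib.Helper98.S11.Data.C36
import Cfsg.Agent.Lib.Helper98.S11.Data.C37
import Cfsg.Agent.Lib.Helper98.S11.Data.C38
import Cfsg.Agent.Lib.Helper98.S11.Data.C39

set_option autoImplicit false
set_option maxRecDepth 100000

namespace Cfsg.Agent.Lib.Helper98.S11

theorem root_chunks : ∀ Q < 1440, ∃ c d : ℕ,
    allB 252 (fun j => chkRootE g11c EN0 110 TT Sp (accr (chunkOf TT Q) 40 j)
    (accr c 72 j) (accr d 64 j)) = true := by
  intro Q hQ
  obtain ⟨G, hG⟩ : ∃ G, G = Q / 36 := ⟨_, rfl⟩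
  have hG' : G < 40 := by omega
  interval_cases G
  · exact grp0 Q (by omega) (by omega)
  · exact grp1 Q (by omega) (by omega)
  · exact grp2 Q (by omega) (by omega)
  · exact grp3 Q (by omega) (by omega)
  · exact grp4 Q (by omega) (by omega)
  · exact grp5 Q (by omega) (by omega)
  · exact grp6 Q (by omega) (by omega)
  · exact grp7 Q (by omega) (by omega)
  · exact grp8 Q (by omega) (by omega)
  · exact grp9 Q (by omega) (by omega)
  · exact grp10 Q (by omega) (by omega)
  · exact grp11 Q (by omega) (by omega)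
  · exact grp12 Q (by omega) (by omega)
  · exact grp13 Q (by omega) (by omega)
  · exact grp14 Q (by omega) (by omega)
  · exact grp15 Q (by omega) (by omega)
  · exact grp16 Q (by omega) (by omega)
  · exact grp17 Q (by omega) (by omega)
  · exact grp18 Q (by omega) (by omega)
  · exact grp19 Q (by omega) (by omega)
  · exact grp20 Q (by omega) (by omega)
  · exact grp21 Q (by omega) (by omega)
  · exact grp22 Q (by omega) (by omega)
  · exact grp23 Q (by omega) (by omega)
  · exact grp24 Q (by omega) (by omega)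
  · exact grp25 Q (by omega) (by omega)
  · exact grp26 Q (by omega) (by omega)
  · exact grp27 Q (by omega) (by omega)
  · exact grp28 Q (by omega) (by omega)
  · exact grp29 Q (by omega) (by omega)
  · exact grp30 Q (by omega) (by omega)
  · exact grp31 Q (by omega) (by omega)
  · exact grp32 Q (by omega) (by omega)
  · exact grp33 Q (by omega) (by omega)
  · exact grp34 Q (by omega) (by omega)
  · exact grp35 Q (by omega) (by omega)
  · exact grp36 Q (by omega) (by omega)
  · exact grp37 Q (by omega) (by omega)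
  · exact grp38 Q (by omega) (by omega)
  · exact grp39 Q (by omega) (by omega)

theorem root_all : ∀ k < 362880, ∃ cl sd,
    chkRootE g11c EN0 110 TT Sp (accLL TT 40 k) cl sd = true :=
  hall_of_chunks g11c EN0 110 TT Sp root_chunks

theorem TT_zero : accLL TT 40 0 = idc := by decide +kernel

end Cfsg.Agent.Lib.Helper98.S11
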